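import Groth.Agent.MoveZeroLib.Main
import Groth.Agent.S11844
import Groth.Agent.S1863
import Groth.Agent.EdP1Lib.P1
import Groth.Agent.GenusZeroLib.Apps
import Groth.Agent.GenusZeroLib.Zeros
import Groth.Agent.AmpleThLib.Locus
import Groth.Agent.CurveAmpLib.Affine

/-!
# Zero-cycle classes of points on chains of rational curves
-/

set_option autoImplicit false
set_option maxHeartbeats 1000000
set_option linter.style.haveILetI false
set_option backward.isDefEq.respectTransparency false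

universe u

open AlgebraicGeometry CategoryTheory CategoryTheory.Limits IsLocalRing TopologicalSpace

noncomputable section

namespace RatCurveChainLib

/-- The cycle of a single point. -/
def pt {X : Scheme.{u}} (x : X) : AlgebraicCycle X ℤ := by
  classical exact Function.locallyFinsuppWithin.single x (1 : ℤ)

theorem pt_self {X : Scheme.{u}} (x : X) : pt x x = 1 := by
  classical
  simp [pt, Function.locallyFinsuppWithin.single_apply]

theorem pt_ne {X : Scheme.{u}} {x y : X} (h : y ≠ x) : pt x y = 0 := by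
  classical
  simp [pt, Function.locallyFinsuppWithin.single_apply, h]

theorem eq_pt {X : Scheme.{u}} {x : X} {c : AlgebraicCycle X ℤ} (hc : ⇑c = Set.indicator {x} 1) : c = pt x := by
  refine DFunLike.ext _ _ fun y => ?_
  rw [hc]
  by_cases h : y = x
  · subst h
    simp [pt_self]
  · simp [pt_ne h, h]

theorem pt_mem_zk {X : Scheme.{u}} {δ : X → ℤ} {x : X} (hx : δ x = 0) : pt x ∈ Cyc.Zk X δ 0 :=
  fun y hy => pt_ne (fun h => hy (h ▸ hx))

variable {k : Type u} [Field k] [IsAlgClosed k]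

/-- Proper push-forward of the cycle of a closed point. -/
theorem map_pt {X Y : Scheme.{u}} (g : Y ⟶ X) {q : Y ⟶ Spec (CommRingCat.of k)} (p : X ⟶ Spec (CommRingCat.of k))
    (hg : g ≫ p = q) [IsProper g] [LocallyOfFiniteType p] [LocallyOfFiniteType q] {δY : Y → ℤ} {δ : X → ℤ}
    (hδY : Cyc.DeltaCompat q δY (fun _ => 0)) (hδ : Cyc.DeltaCompat p δ (fun _ => 0))
    {y : Y} (hy : IsClosed ({y} : Set Y)) : AlgebraicCycle.map g δY δ (pt y) = pt (g y) := by
  classical
  have hgy : IsClosed ({g y} : Set X) := by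
    have := g.isClosedMap _ hy
    rwa [Set.image_singleton] at this
  refine DFunLike.ext _ _ fun w => ?_
  show ∑ᶠ a ∈ (g.base : Y → X) ⁻¹' {w}, pt y a * (AlgebraicCycle.mapCoeff g δY δ a : ℤ) = _
  by_cases hw : w = g y
  · subst hw
    rw [finsum_mem_def, finsum_eq_single _ y, Set.indicator_of_mem (show y ∈ (g.base : Y → X) ⁻¹' {g y} from rfl),
      pt_self, pt_self, one_mul, AlgebraicCycle.mapCoeff,
      if_pos (show δY y = δ (g y) by rw [MoveZeroLib.delta_closed q hδY hy, MoveZeroLib.delta_closed p hδ hgy])]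
    · have hdeg : g.residueDegree y = 1 := by
        refine CycPBLib.residueDegree_eq_one_of_bijective g y ?_
        have h1 : Function.Bijective (q.residueFieldMap y).hom := MoveZeroLib.residueFieldMap_bijective q hδY hy
        have key : ∀ {r : Y ⟶ Spec (CommRingCat.of k)}, r = q → Function.Surjective (r.residueFieldMap y).hom :=
          fun e => by subst e; exact h1.2
        have h2 := key hg
        rw [Scheme.residueFieldMap_comp] at h2
        exact ⟨(g.residueFieldMap y).hom.injective, Function.Surjective.of_comp h2⟩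
      exact_mod_cast hdeg
    · intro a ha
      rw [Set.indicator_apply]
      split_ifs
      · rw [pt_ne ha, zero_mul]
      · rfl
  · rw [pt_ne hw]
    refine finsum_mem_eq_zero_of_forall_eq_zero fun a (ha : g a = w) => ?_
    rw [pt_ne (fun e => hw (by rw [← ha, e])), zero_mul]

omit [IsAlgClosed k] in
/-- Rational equivalence of zero-cycles on a point is equality. -/
theorem eq_of_ratEquiv_point {α β : AlgebraicCycle (Spec (CommRingCat.of k)) ℤ}
    (h : Cyc.RatEquiv (fun _ => (0 : ℤ)) 0 α β) : α = β := by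
  obtain ⟨ι, ξ, f, h1, -, -, h4⟩ := h
  refine DFunLike.ext _ _ fun x => sub_eq_zero.1 ?_
  haveI : IsEmpty ι := ⟨fun i => absurd (h1 i) (by norm_num)⟩
  exact (h4 x).trans (finsum_of_isEmpty _)

variable [CharZero k]

omit [IsAlgClosed k] [CharZero k] in
/-- The standard charts of the line. -/
theorem exists_chart (i : Fin 2) : ∃ j : Spec (CommRingCat.of (MvPolynomial (Fin 1) k)) ⟶ CohB1.ProjSpace 1 k,
    ∃ _ : IsOpenImmersion j, j.opensRange = QCohLib.stdOpen 1 k i ∧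
      j ≫ CohB1.ProjSpace.toSpec 1 k =
        Spec.map (CommRingCat.ofHom (algebraMap k (MvPolynomial (Fin 1) k))) := by
  let X₀ : MvPolynomial (Fin (1 + 1)) k := MvPolynomial.X i
  have hX : X₀ ∈ CohB1.polyGrading 1 k 1 := GradedCechLib.X_mem 1 k i
  let e := RingEquiv.ofBijective _ (GenusZeroLib.chartPoly_bijective 1 k i)
  refine ⟨Spec.map e.symm.toCommRingCatIso.hom ≫ Proj.awayι (CohB1.polyGrading 1 k) X₀ hX one_pos, inferInstance, ?_, ?_⟩
  · rw [Scheme.Hom.opensRange_comp_of_isIso, Proj.opensRange_awayι]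
    rfl
  show (Spec.map e.symm.toCommRingCatIso.hom ≫ Proj.awayι (CohB1.polyGrading 1 k) X₀ hX one_pos) ≫
    Proj.toSpecZero (CohB1.polyGrading 1 k) ≫
      Spec.map (CommRingCat.ofHom (algebraMap k (CohB1.polyGrading 1 k 0))) = _
  rw [Category.assoc, Proj.awayι_toSpecZero_assoc, ← Spec.map_comp, ← Spec.map_comp]
  refine congrArg Spec.map (CommRingCat.hom_ext (RingHom.ext fun c => ?_))
  show e.symm (GradedCechLib.cst 1 k (MvPolynomial.X i) c) = MvPolynomial.C c
  rw [RingEquiv.symm_apply_eq]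
  show _ = GenusZeroLib.chartPoly 1 k i (MvPolynomial.C c)
  simp [GenusZeroLib.chartPoly]

/-- Closed points of one chart of the line are rationally equivalent on the line. -/
theorem chart_ratEquiv {δ : CohB1.ProjSpace 1 k → ℤ}
    (hδ : Cyc.DeltaCompat (CohB1.ProjSpace.toSpec 1 k) δ (fun _ => 0)) (i : Fin 2)
    {a b : CohB1.ProjSpace 1 k} (ha : IsClosed ({a} : Set (CohB1.ProjSpace 1 k)))
    (hb : IsClosed ({b} : Set (CohB1.ProjSpace 1 k)))
    (hai : a ∈ QCohLib.stdOpen 1 k i) (hbi : b ∈ QCohLib.stdOpen 1 k i) : Cyc.RatEquiv δ 0 (pt a) (pt b) := by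
  classical
  let q := CohB1.ProjSpace.toSpec 1 k
  haveI : IsProper q := ProjDegLib.toSpec_isProper k 1
  obtain ⟨j, hj, hrange, hjq⟩ := exists_chart (k := k) i
  haveI := hj
  let U := j.opensRange
  let qA := Spec.map (CommRingCat.ofHom (algebraMap k (MvPolynomial (Fin 1) k)))
  haveI : LocallyOfFiniteType qA := by rw [show qA = j ≫ q from hjq.symm]; infer_instance
  let e := IsOpenImmersion.isoOfRangeEq j U.ι U.range_ι.symm
  have he : e.hom ≫ U.ι = j := IsOpenImmersion.isoOfRangeEq_hom_fac _ _ _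
  have hS : Cyc.IsSetup (CohB1.ProjSpace 1 k) δ := CycBivLib.isSetup_of_lft q CycC1Lib.isSetup_field hδ
  obtain ⟨δA, hδA⟩ := CycAffLib.exists_deltaCompat qA (fun _ => (0 : ℤ))
  obtain ⟨δU, hδU⟩ := CycAffLib.exists_deltaCompat (U.ι ≫ q) (fun _ => (0 : ℤ))
  have hSA := CycBivLib.isSetup_of_lft qA CycC1Lib.isSetup_field hδA
  have hSU := CycBivLib.isSetup_of_lft (U.ι ≫ q) CycC1Lib.isSetup_field hδU
  have hδUeq : δU = fun v => δ (U.ι v) :=
    CycBivLib.deltaCompat_immersion_eq U.ι (CycBivLib.deltaCompat_cancel U.ι q rfl hδ hδU)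
  have hw : e.hom ≫ (U.ι ≫ q) = qA := by rw [← Category.assoc, he]; exact hjq
  have heδ : Cyc.DeltaCompat e.hom δA δU := CycBivLib.deltaCompat_cancel e.hom (U.ι ≫ q) hw hδU hδA
  have haU : a ∈ U := hrange.ge hai
  have hbU : b ∈ U := hrange.ge hbi
  obtain ⟨a', rfl⟩ : ∃ a', j a' = a := haU
  obtain ⟨b', rfl⟩ : ∃ b', j b' = b := hbU
  have hcl : ∀ z, IsClosed ({j z} : Set (CohB1.ProjSpace 1 k)) → IsClosed ({z} : Set _) := fun z hz => by
    rw [show ({z} : Set _) = j ⁻¹' {j z} from Set.ext fun v =>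
      ⟨fun h => congrArg _ h, fun h => j.isOpenEmbedding.injective h⟩]
    exact hz.preimage j.continuous
  have ha' := hcl a' ha
  have hb' := hcl b' hb
  have hza : pt a' ∈ Cyc.Zk _ δA 0 := pt_mem_zk (MoveZeroLib.delta_closed qA hδA ha')
  have hzb : pt b' ∈ Cyc.Zk _ δA 0 := pt_mem_zk (MoveZeroLib.delta_closed qA hδA hb')
  have hA : Cyc.RatEquiv δA 0 (pt a') (pt b') :=
    Groth.Agent.S11844.result k 1 δA hδA 0 (by norm_num) (pt a' - pt b')
      (fun x hx => by simp [hza x hx, hzb x hx])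
  have hU := Groth.Agent.S1855.result _ _ δA δU hSA hSU e.hom heδ 0 _ _ hza hzb hA
  rw [map_pt e.hom (U.ι ≫ q) hw hδA hδU ha', map_pt e.hom (U.ι ≫ q) hw hδA hδU hb', hδUeq] at hU
  have hres : ∀ z : Spec (CommRingCat.of (MvPolynomial (Fin 1) k)), ∀ v : ↥U, pt (e.hom z) v = pt (j z) (U.ι v) := by
    intro z v
    have hz : U.ι (e.hom z) = j z := by rw [← Scheme.Hom.comp_apply, he]
    by_cases h : v = e.hom z
    · subst h; rw [pt_self, hz, pt_self]
    · rw [pt_ne h, pt_ne (fun h' => h (U.ι.isOpenEmbedding.injective (h'.trans hz.symm)))]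
  have hza' : pt (j a') ∈ Cyc.Zk _ δ 0 := pt_mem_zk (MoveZeroLib.delta_closed q hδ ha)
  have hzb' : pt (j b') ∈ Cyc.Zk _ δ 0 := pt_mem_zk (MoveZeroLib.delta_closed q hδ hb)
  obtain ⟨γ, hγk, hγU, hγ⟩ := Groth.Agent.S1863.result _ δ hS U 0 _ _ hza' hzb' _ _ (hres a') (hres b') hU
  suffices hγ0 : γ = 0 by rwa [hγ0, add_zero] at hγ
  by_contra hne
  obtain ⟨x, hx⟩ : ∃ x, γ x ≠ 0 := by
    by_contra h
    push Not at h
    exact hne (DFunLike.ext _ _ h)
  have hxU : x ∉ U := fun h => hx (hγU x h)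
  have hzero : ∀ y, y ≠ x → γ y = 0 := fun y hy => by
    by_contra h
    refine hy (EdP1Lib.unique_zero k i (fun h' => h (hγU y (hrange.ge h'))) (fun h' => hxU (hrange.ge h')))
  have hx0 : δ x = 0 := by
    by_contra h
    exact hx (hγk x h)
  have hxc := AlgEqPointLib.closed_of_delta_zero q hδ hx0
  have hδ0 : Cyc.DeltaCompat q δ (fun _ => (0 : ℤ)) := hδ
  have hpush := eq_of_ratEquiv_point (Groth.Agent.S1855.result _ _ δ (fun _ => (0 : ℤ)) hS
    CycC1Lib.isSetup_field q hδ0 0 _ (pt (j b') + γ) hza'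
    (fun y hy => by simp [hzb' y hy, hγk y hy]) hγ)
  have hev := congrArg (fun c : AlgebraicCycle (Spec (CommRingCat.of k)) ℤ => c (closedPoint k)) hpush
  have hpre : ((q.base : CohB1.ProjSpace 1 k → Spec (CommRingCat.of k)) ⁻¹' {closedPoint k}) = Set.univ :=
    Set.eq_univ_of_forall fun y => Subsingleton.elim (α := PrimeSpectrum k) (q y) (closedPoint k)
  change (∑ᶠ y ∈ (q.base : CohB1.ProjSpace 1 k → Spec (CommRingCat.of k)) ⁻¹' {closedPoint k},
      pt (j a') y * (AlgebraicCycle.mapCoeff q δ (fun _ => (0 : ℤ)) y : ℤ)) =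
    ∑ᶠ y ∈ (q.base : CohB1.ProjSpace 1 k → Spec (CommRingCat.of k)) ⁻¹' {closedPoint k},
      (pt (j b') + γ) y * (AlgebraicCycle.mapCoeff q δ (fun _ => (0 : ℤ)) y : ℤ) at hev
  rw [hpre, finsum_mem_univ, finsum_mem_univ] at hev
  have hcoef : ∀ y, δ y = 0 → (AlgebraicCycle.mapCoeff q δ (fun _ => (0 : ℤ)) y : ℤ) = 1 := fun y hy => by
    rw [AlgebraicCycle.mapCoeff, if_pos hy, (AlgEqPointLib.closed_of_delta_zero q hδ hy).2]
    rfl
  have hbx : j b' ≠ x := fun h => hxU (h ▸ ⟨b', rfl⟩)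
  rw [finsum_eq_single _ (j a') (fun y hy => by rw [pt_ne hy, zero_mul]), pt_self,
    hcoef _ (MoveZeroLib.delta_closed q hδ ha)] at hev
  rw [finsum_eq_sum_of_support_subset _ (s := {j b', x}) (fun y hy => by
      simp only [Finset.coe_insert, Finset.coe_singleton, Set.mem_insert_iff, Set.mem_singleton_iff]
      by_contra h
      push Not at h
      exact hy (by simp [pt_ne h.1, hzero y h.2])),
    Finset.sum_pair hbx, hcoef _ (MoveZeroLib.delta_closed q hδ hb), hcoef _ hx0] at hev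
  simp [pt_self, pt_ne (Ne.symm hbx), hγU (j b') ⟨b', rfl⟩] at hev
  exact hx hev

/-- Closed points of the line are rationally equivalent. -/
theorem line_ratEquiv {δ : CohB1.ProjSpace 1 k → ℤ}
    (hδ : Cyc.DeltaCompat (CohB1.ProjSpace.toSpec 1 k) δ (fun _ => 0))
    {a b : CohB1.ProjSpace 1 k} (ha : IsClosed ({a} : Set (CohB1.ProjSpace 1 k)))
    (hb : IsClosed ({b} : Set (CohB1.ProjSpace 1 k))) : Cyc.RatEquiv δ 0 (pt a) (pt b) := by
  haveI : IsProper (CohB1.ProjSpace.toSpec 1 k) := ProjDegLib.toSpec_isProper k 1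
  haveI : IsIntegral (CohB1.ProjSpace 1 k) := GenusZeroLib.isIntegral_projSpace k 1
  have hS := CycBivLib.isSetup_of_lft (CohB1.ProjSpace.toSpec 1 k) CycC1Lib.isSetup_field hδ
  have hcov : ∀ x : CohB1.ProjSpace 1 k, ∃ i, x ∈ QCohLib.stdOpen 1 k i := fun x =>
    TopologicalSpace.Opens.mem_iSup.mp ((QCohLib.iSup_stdOpen 1 k).ge (TopologicalSpace.Opens.mem_top x))
  obtain ⟨i, hi⟩ := hcov a
  obtain ⟨l, hl⟩ := hcov b
  haveI : JacobsonSpace (CohB1.ProjSpace 1 k) := LocallyOfFiniteType.jacobsonSpace (CohB1.ProjSpace.toSpec 1 k)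
  obtain ⟨c, hc, hcc⟩ := nonempty_inter_closedPoints
    (Z := ((QCohLib.stdOpen 1 k i : Set (CohB1.ProjSpace 1 k)) ∩ (QCohLib.stdOpen 1 k l : Set _)))
    ⟨genericPoint _, ((genericPoint_spec _).mem_open_set_iff (QCohLib.stdOpen 1 k i).2).2 ⟨a, trivial, hi⟩,
      ((genericPoint_spec _).mem_open_set_iff (QCohLib.stdOpen 1 k l).2).2 ⟨b, trivial, hl⟩⟩
    ((QCohLib.stdOpen 1 k i).2.inter (QCohLib.stdOpen 1 k l).2).isLocallyClosed
  exact CycCommLib.ratEquiv_trans hS (chart_ratEquiv hδ i ha hcc hi hc.1) (chart_ratEquiv hδ l hcc hb hc.2 hl)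

variable {X : Scheme.{u}} (p : X ⟶ Spec (CommRingCat.of k)) [IsProper p] {δ : X → ℤ}
  (hδ : Cyc.DeltaCompat p δ (fun _ => 0))

include hδ in
/-- Closed points on one rational curve are rationally equivalent. -/
theorem curve_ratEquiv (g : CohB1.ProjSpace 1 k ⟶ X) (hg : g ≫ p = CohB1.ProjSpace.toSpec 1 k)
    {u v : X} (hu : IsClosed ({u} : Set X)) (hv : IsClosed ({v} : Set X))
    (hur : u ∈ Set.range g) (hvr : v ∈ Set.range g) : Cyc.RatEquiv δ 0 (pt u) (pt v) := by
  let q := CohB1.ProjSpace.toSpec 1 k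
  haveI : IsProper q := ProjDegLib.toSpec_isProper k 1
  haveI : IsProper g := by
    haveI : IsProper (g ≫ p) := by rw [hg]; infer_instance
    exact IsProper.of_comp g p
  haveI : JacobsonSpace (CohB1.ProjSpace 1 k) := LocallyOfFiniteType.jacobsonSpace q
  obtain ⟨δP, hδP⟩ := CycAffLib.exists_deltaCompat q (fun _ => (0 : ℤ))
  have hlift : ∀ w, IsClosed ({w} : Set X) → w ∈ Set.range g →
      ∃ c, g c = w ∧ IsClosed ({c} : Set (CohB1.ProjSpace 1 k)) := fun w hw hwr => by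
    obtain ⟨c₀, hc₀⟩ := hwr
    obtain ⟨c, hc, hcc⟩ := nonempty_inter_closedPoints (Z := g ⁻¹' {w}) ⟨c₀, hc₀⟩
      (hw.preimage g.continuous).isLocallyClosed
    exact ⟨c, hc, hcc⟩
  obtain ⟨a, rfl, ha⟩ := hlift u hu hur
  obtain ⟨b, rfl, hb⟩ := hlift v hv hvr
  have h := Groth.Agent.S1855.result _ _ δP δ (CycBivLib.isSetup_of_lft q CycC1Lib.isSetup_field hδP)
    (CycBivLib.isSetup_of_lft p CycC1Lib.isSetup_field hδ) g (CycBivLib.deltaCompat_cancel g p hg hδ hδP) 0
    _ _ (pt_mem_zk (MoveZeroLib.delta_closed q hδP ha)) (pt_mem_zk (MoveZeroLib.delta_closed q hδP hb))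
    (line_ratEquiv hδP ha hb)
  rwa [map_pt g p hg hδP hδ ha, map_pt g p hg hδP hδ hb] at h

omit [IsAlgClosed k] [CharZero k] in
/-- A relation propagates along a connected finite union of closed sets. -/
theorem chain {Y : Type*} [TopologicalSpace Y] {ι : Type*} [Finite ι] (T : ι → Set Y) (hcl : ∀ i, IsClosed (T i))
    (hconn : _root_.IsConnected (⋃ i, T i)) (P : Y → Prop) (R : Y → Y → Prop) (hrefl : ∀ a, R a a)
    (htrans : ∀ {a b c}, R a b → R b c → R a c)
    (hmeet : ∀ i j, (T i ∩ T j).Nonempty → ∃ z ∈ T i ∩ T j, P z)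
    (hlink : ∀ i, ∀ a ∈ T i, ∀ b ∈ T i, P a → P b → R a b)
    {x y : Y} (hx : x ∈ ⋃ i, T i) (hy : y ∈ ⋃ i, T i) (hPx : P x) (hPy : P y) : R x y := by
  obtain ⟨a, ha⟩ := Set.mem_iUnion.1 hx
  let G : Set ι := {i | ∃ z ∈ T i, P z ∧ R x z}
  have hA : IsClosed (⋃ i ∈ G, T i) := (Set.toFinite G).isClosed_biUnion fun i _ => hcl i
  have hB : IsClosed (⋃ i ∈ Gᶜ, T i) := (Set.toFinite Gᶜ).isClosed_biUnion fun i _ => hcl i
  by_cases hb : ∃ b ∈ G, y ∈ T b
  · obtain ⟨b, ⟨z, hz, hPz, hxz⟩, hyb⟩ := hb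
    exact htrans hxz (hlink b z hz y hyb hPz hPy)
  · push Not at hb
    obtain ⟨b, hyb⟩ := Set.mem_iUnion.1 hy
    have hcov : (⋃ i, T i) ⊆ (⋃ i ∈ G, T i) ∪ ⋃ i ∈ Gᶜ, T i := fun z hz => by
      obtain ⟨i, hi⟩ := Set.mem_iUnion.1 hz
      by_cases h : i ∈ G
      · exact Or.inl (Set.mem_biUnion h hi)
      · exact Or.inr (Set.mem_biUnion h hi)
    obtain ⟨w, -, hwA, hwB⟩ := (isPreconnected_closed_iff.1 hconn.2) _ _ hA hB hcov
      ⟨x, hx, Set.mem_biUnion (show a ∈ G from ⟨x, ha, hPx, hrefl x⟩) ha⟩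
      ⟨y, hy, Set.mem_biUnion (show b ∈ Gᶜ from fun h => hb b h hyb) hyb⟩
    obtain ⟨i, ⟨z, hz, hPz, hxz⟩, hwi⟩ := Set.mem_iUnion₂.1 hwA
    obtain ⟨j, hj, hwj⟩ := Set.mem_iUnion₂.1 hwB
    obtain ⟨v, ⟨hvi, hvj⟩, hPv⟩ := hmeet i j ⟨w, hwi, hwj⟩
    exact absurd ⟨v, hvj, hPv, htrans hxz (hlink i z hz v hvi hPz hPv)⟩ hj

include hδ in
/-- Points on rational curves are equivalent when an ample zero set is a connected union of rational curves. -/
theorem ratEquiv_of_ample [IsIntegral X] (hdim : topologicalKrullDim X ≤ 2)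
    {L : X.Modules} (hL : CohB1.IsAmple L) (s : Coh.structureModule X ⟶ L) (hs : s ≠ 0)
    (hconn : _root_.IsConnected ((CohB1.genLocus L s : Set X)ᶜ))
    (hrat : ∀ h ∈ ((CohB1.genLocus L s : Set X)ᶜ), IsClosed ({h} : Set X) →
      ∃ g : CohB1.ProjSpace 1 k ⟶ X, g ≫ p = CohB1.ProjSpace.toSpec 1 k ∧ (Set.range ⇑g).Nontrivial ∧
        h ∈ Set.range ⇑g ∧ Set.range ⇑g ⊆ (CohB1.genLocus L s : Set X)ᶜ)
    {x y : X} (hx : IsClosed ({x} : Set X)) (hy : IsClosed ({y} : Set X))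
    (hxr : ∃ g : CohB1.ProjSpace 1 k ⟶ X, g ≫ p = CohB1.ProjSpace.toSpec 1 k ∧ (Set.range ⇑g).Nontrivial ∧
      x ∈ Set.range ⇑g)
    (hyr : ∃ g : CohB1.ProjSpace 1 k ⟶ X, g ≫ p = CohB1.ProjSpace.toSpec 1 k ∧ (Set.range ⇑g).Nontrivial ∧
      y ∈ Set.range ⇑g) :
    Cyc.RatEquiv δ 0 (pt x) (pt y) := by
  classical
  haveI : IsLocallyNoetherian X := LocallyOfFiniteType.isLocallyNoetherian p
  haveI : CompactSpace X := QuasiCompact.compactSpace_of_compactSpace p
  haveI : IsNoetherian X := ⟨⟩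
  haveI : JacobsonSpace X := LocallyOfFiniteType.jacobsonSpace p
  haveI : IsIntegral (CohB1.ProjSpace 1 k) := GenusZeroLib.isIntegral_projSpace k 1
  haveI : IsProper (CohB1.ProjSpace.toSpec 1 k) := ProjDegLib.toSpec_isProper k 1
  have hS := CycBivLib.isSetup_of_lft p CycC1Lib.isSetup_field hδ
  have hgen : CohB1.genLocus L s = TwistLib.genSet hL.1 (s.app ⊤ (1 : Γ(X, ⊤))) := AmpleThLib.genLocus_hom hL.1 s
  have haff : IsAffineOpen (CohB1.genLocus L s) := by
    rw [hgen]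
    exact CurveAmpLib.isAffineOpen_genSet p hL.1 hL _
  have hσ : s.app ⊤ (1 : Γ(X, ⊤)) ≠ 0 := fun h0 => hs (by
    refine (AmpleThLib.unitHom_eq s).trans ?_
    rw [h0]
    exact (AmpleThLib.unitHom_eq (0 : Coh.structureModule X ⟶ L)).symm)
  have hη : genericPoint X ∈ CohB1.genLocus L s := by
    rw [hgen]
    exact GenusZeroLib.genericPoint_mem_genSet hL.1 hσ
  have hrange : ∀ g : CohB1.ProjSpace 1 k ⟶ X, g ≫ p = CohB1.ProjSpace.toSpec 1 k →
      IsClosed (Set.range g) ∧ IsIrreducible (Set.range g) := fun g hg => by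
    haveI : IsProper g := by
      haveI : IsProper (g ≫ p) := by rw [hg]; infer_instance
      exact IsProper.of_comp g p
    exact ⟨g.isClosedMap.isClosed_range, by
      rw [← Set.image_univ]
      exact (irreducibleSpace_def _ |>.1 inferInstance).image _ g.continuous.continuousOn⟩
  -- every rational curve meets the zero set
  have hmeetH : ∀ z : X, IsClosed ({z} : Set X) → (∃ g : CohB1.ProjSpace 1 k ⟶ X,
      g ≫ p = CohB1.ProjSpace.toSpec 1 k ∧ (Set.range ⇑g).Nontrivial ∧ z ∈ Set.range ⇑g) →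
      ∃ w, w ∈ (CohB1.genLocus L s : Set X)ᶜ ∧ IsClosed ({w} : Set X) ∧ Cyc.RatEquiv δ 0 (pt z) (pt w) := by
    rintro z hz ⟨g, hg, hnt, hzg⟩
    obtain ⟨hgc, hgi⟩ := hrange g hg
    by_cases hne : (Set.range g ∩ (CohB1.genLocus L s : Set X)ᶜ).Nonempty
    · obtain ⟨w, ⟨hwg, hwH⟩, hwc⟩ := nonempty_inter_closedPoints hne
        (hgc.inter (CohB1.genLocus L s).2.isClosed_compl).isLocallyClosed
      exact ⟨w, hwH, hwc, curve_ratEquiv p hδ g hg hz hwc hzg hwg⟩
    exfalso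
    obtain ⟨Y, i, hi, hY, hir⟩ := SquareLib.exists_integral_sub hgi hgc
    haveI := hi; haveI := hY
    have hpre : i ⁻¹ᵁ CohB1.genLocus L s = ⊤ := top_le_iff.1 fun v _ => by
      by_contra hv
      exact hne ⟨i v, hir.le ⟨v, rfl⟩, hv⟩
    haveI : IsAffine Y := by
      have h := haff.preimage i
      rw [hpre] at h
      haveI : IsAffine (⊤ : Y.Opens).toScheme := h
      exact IsAffine.of_isIso Y.topIso.inv
    haveI : IsProper (i ≫ p) := inferInstance
    haveI : IsFinite (i ≫ p) := IsFinite.iff_isProper_and_isAffineHom.mpr ⟨inferInstance, inferInstance⟩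
    haveI : Finite Y := by
      have hf := (i ≫ p).finite_preimage_singleton (closedPoint k)
      rw [show ((i ≫ p) ⁻¹' {closedPoint k} : Set Y) = Set.univ from Set.eq_univ_of_forall fun v =>
        Subsingleton.elim (α := PrimeSpectrum k) ((i ≫ p) v) (closedPoint k)] at hf
      exact Set.finite_univ_iff.1 hf
    haveI : JacobsonSpace Y := LocallyOfFiniteType.jacobsonSpace (i ≫ p)
    haveI : DiscreteTopology Y := inferInstance
    haveI : Subsingleton Y := ⟨fun v v' => by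
      have h : ∀ w : Y, w = genericPoint Y := fun w => by
        have h' : w ∈ ({genericPoint Y} : Set Y) :=
          ((genericPoint_spec Y).specializes (trivial : w ∈ Set.univ)).mem_closed (isClosed_discrete _) (Set.mem_singleton _)
        exact h'
      exact (h v).trans (h v').symm⟩
    obtain ⟨u, hu, v, hv, huv⟩ := hnt
    rw [← hir] at hu hv
    obtain ⟨u', rfl⟩ := hu
    obtain ⟨v', rfl⟩ := hv
    exact huv (congrArg i (Subsingleton.elim u' v'))
  obtain ⟨x', hx'H, hx'c, hxx'⟩ := hmeetH x hx hxr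
  obtain ⟨y', hy'H, hy'c, hyy'⟩ := hmeetH y hy hyr
  refine CycCommLib.ratEquiv_trans hS hxx' (CycCommLib.ratEquiv_trans hS ?_ (CycCommLib.ratEquiv_symm hS hyy'))
  -- components of the zero set
  obtain ⟨S₀, hS₀fin, hS₀cl, hS₀irr, hS₀⟩ :=
    NoetherianSpace.exists_finite_set_isClosed_irreducible (CohB1.genLocus L s).2.isClosed_compl
  have hex : ∃ n, ∃ S : Finset (Set X), S.card = n ∧ (∀ t ∈ S, IsClosed t ∧ IsIrreducible t) ∧
      (CohB1.genLocus L s : Set X)ᶜ = ⋃₀ ↑S :=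
    ⟨_, hS₀fin.toFinset, rfl, fun t ht => ⟨hS₀cl t (hS₀fin.mem_toFinset.1 ht), hS₀irr t (hS₀fin.mem_toFinset.1 ht)⟩,
      by rw [Set.Finite.coe_toFinset]; exact hS₀⟩
  obtain ⟨S, hcard, hSp, hSH⟩ := Nat.find_spec hex
  have hcurve : ∀ t ∈ S, ∃ g : CohB1.ProjSpace 1 k ⟶ X, g ≫ p = CohB1.ProjSpace.toSpec 1 k ∧ Set.range g = t := by
    intro t ht
    have hnot : ¬ t ⊆ ⋃₀ ↑(S.erase t) := fun hsub => by
      refine Nat.find_min hex (m := (S.erase t).card) ?_ ⟨S.erase t, rfl, fun t' ht' => hSp t' (Finset.mem_of_mem_erase ht'), ?_⟩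
      · exact lt_of_lt_of_eq (Finset.card_erase_lt_of_mem ht) hcard
      · rw [hSH]
        refine subset_antisymm (Set.sUnion_subset fun t' ht' => ?_) (Set.sUnion_mono (Finset.coe_subset.2 (Finset.erase_subset _ _)))
        by_cases h : t' = t
        · exact h ▸ hsub
        · exact Set.subset_sUnion_of_mem (Finset.mem_coe.2 (Finset.mem_erase.2 ⟨h, ht'⟩))
    obtain ⟨h, ⟨hht, hhn⟩, hhc⟩ := nonempty_inter_closedPoints (Set.not_subset.1 hnot)
      (IsLocallyClosed.inter (hSp t ht).1.isLocallyClosed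
        (IsClosed.isOpen_compl (self := Set.sUnion_eq_biUnion ▸ (S.erase t).finite_toSet.isClosed_biUnion fun t' ht' => (hSp t' (Finset.mem_of_mem_erase ht')).1)).isLocallyClosed)
    have hhH : h ∈ (CohB1.genLocus L s : Set X)ᶜ := hSH ▸ Set.mem_sUnion_of_mem hht (Finset.mem_coe.2 ht)
    obtain ⟨g, hg, hnt, hhg, hgH⟩ := hrat h hhH hhc
    obtain ⟨hgc, hgi⟩ := hrange g hg
    obtain ⟨t', ht', hgt'⟩ := (isIrreducible_iff_sUnion_isClosed.1 hgi) S (fun z hz => (hSp z hz).1) (hSH ▸ hgH)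
    obtain rfl : t' = t := by
      by_contra h'
      exact hhn (Set.mem_sUnion_of_mem (hgt' hhg) (Finset.mem_coe.2 (Finset.mem_erase.2 ⟨h', ht'⟩)))
    refine ⟨g, hg, by_contra fun hne => ?_⟩
    have htu : t' ⊂ Set.univ := Set.ssubset_univ_iff.2 fun e =>
      (hSH.ge (Set.mem_sUnion_of_mem (e.ge (Set.mem_univ (genericPoint X))) (Finset.mem_coe.2 ht))) hη
    have hgt : Set.range g ⊂ t' := hgt'.ssubset_of_ne hne
    have hhg' : ({h} : Set X) ⊂ Set.range g := (Set.singleton_subset_iff.2 hhg).ssubset_of_ne fun e => by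
      obtain ⟨u, hu, v, hv, huv⟩ := hnt
      rw [← e] at hu hv
      exact huv (hu.trans hv.symm)
    let A : IrreducibleCloseds X := ⟨{h}, isIrreducible_singleton, hhc⟩
    let B : IrreducibleCloseds X := ⟨Set.range g, hgi, hgc⟩
    let C : IrreducibleCloseds X := ⟨t', (hSp t' ht).2, (hSp t' ht).1⟩
    let D : IrreducibleCloseds X := ⟨Set.univ, irreducibleSpace_def X |>.1 inferInstance, isClosed_univ⟩
    have hAB : A < B := hhg'
    have hBC : B < C := hgt
    have hCD : C < D := htu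
    let ch : LTSeries (IrreducibleCloseds X) :=
      (((RelSeries.singleton _ A).snoc B (by simpa using hAB)).snoc C (by simpa using hBC)).snoc D (by simpa using hCD)
    have h3 : ((3 : ℕ) : WithBot ℕ∞) ≤ topologicalKrullDim X := Order.LTSeries.length_le_krullDim ch
    have h4 := h3.trans hdim
    norm_num at h4
  choose g hg hgr using hcurve
  refine chain (fun t : S => (t.1 : Set X)) (fun t => (hSp _ t.2).1) ?_ (fun z => IsClosed ({z} : Set X))
    (fun a b => Cyc.RatEquiv δ 0 (pt a) (pt b)) (fun a => CycCommLib.ratEquiv_refl _)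
    (fun h h' => CycCommLib.ratEquiv_trans hS h h')
    (fun t t' h => nonempty_inter_closedPoints h ((hSp _ t.2).1.inter (hSp _ t'.2).1).isLocallyClosed)
    (fun t a ha b hb hac hbc => curve_ratEquiv p hδ (g t.1 t.2) (hg _ t.2) hac hbc
      ((hgr _ t.2).ge ha) ((hgr _ t.2).ge hb)) ?_ ?_ hx'c hy'c
  · rw [show (⋃ t : S, (t.1 : Set X)) = ⋃₀ ↑S by rw [Set.sUnion_eq_iUnion]; rfl, ← hSH]
    exact hconn
  · rw [show (⋃ t : S, (t.1 : Set X)) = ⋃₀ ↑S by rw [Set.sUnion_eq_iUnion]; rfl, ← hSH]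
    exact hx'H
  · rw [show (⋃ t : S, (t.1 : Set X)) = ⋃₀ ↑S by rw [Set.sUnion_eq_iUnion]; rfl, ← hSH]
    exact hy'H

end RatCurveChainLib
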